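import Cfsg.Prelude.Def_SolvableStructure
import Cfsg.Agent.Lib.Coprime.Hall
import Cfsg.Agent.Lib.Coprime.Solvable
import Cfsg.Agent.Lib.Coprime.Action
import Cfsg.Agent.Lib.Coprime.Core
import Cfsg.Agent.Lib.PGroup.Basic

/-!
# Complement systems and system normalizers of solvable groups

Cosets of subgroups of coprime index meet; complement systems are conjugate; the system normalizer
is nilpotent, maps onto the system normalizer of a quotient, covers central and avoids eccentric
chief factors.
-/

set_option autoImplicit false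
set_option linter.unusedSectionVars false

namespace CfsgLib.Coprime.System

open Subgroup

universe u

variable {G : Type u} [Group G] [Finite G]

theorem index_inf_eq_mul {H K : Subgroup G} (h : H.index.Coprime K.index) :
    (H ⊓ K).index = H.index * K.index :=
  le_antisymm index_inf_le (Nat.le_of_dvd (Nat.pos_of_ne_zero index_ne_zero_of_finite)
    (h.mul_dvd_of_dvd_of_dvd (index_dvd_of_le inf_le_left) (index_dvd_of_le inf_le_right)))

/-- Cosets of subgroups of pairwise coprime index meet. -/
theorem exists_mem_cosets {ι : Type*} [DecidableEq ι] (K : ι → Subgroup G) (g : ι → G)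
    (s : Finset ι) (hco : ∀ i ∈ s, ∀ j ∈ s, i ≠ j → (K i).index.Coprime (K j).index) :
    ∃ x : G, (∀ i ∈ s, (g i)⁻¹ * x ∈ K i) ∧
      (s.inf K).index = ∏ i ∈ s, (K i).index := by
  induction s using Finset.induction with
  | empty => exact ⟨1, by simp, by simp⟩
  | @insert a s ha ih =>
    obtain ⟨x, hx, hidx⟩ := ih fun i hi j hj => hco i (Finset.mem_insert_of_mem hi) j
      (Finset.mem_insert_of_mem hj)
    have hc : (s.inf K).index.Coprime (K a).index := by
      rw [hidx]
      exact Nat.Coprime.prod_left fun i hi => hco i (Finset.mem_insert_of_mem hi) a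
        (Finset.mem_insert_self a s) fun e => ha (e ▸ hi)
    obtain ⟨y, hy, z, hz, e⟩ := mul_eq_univ_of_coprime hc (x⁻¹ * g a)
    refine ⟨x * y, fun i hi => ?_, ?_⟩
    · rcases Finset.mem_insert.1 hi with rfl | hi
      · rw [show (g i)⁻¹ * (x * y) = (x⁻¹ * g i)⁻¹ * y by group, e,
          show (y * z)⁻¹ * y = z⁻¹ by group]
        exact (K i).inv_mem hz
      · rw [← mul_assoc]
        exact (K i).mul_mem (hx i hi) ((Finset.inf_le hi : s.inf K ≤ K i) hy)
    · rw [Finset.inf_insert, inf_comm, index_inf_eq_mul hc, hidx, Finset.prod_insert ha, mul_comm]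

/-- Cosets of subgroups of prime power index, one for each prime, meet. -/
theorem exists_mem_cosets_primes (K : Nat.Primes → Subgroup G)
    (hK : ∀ p : Nat.Primes, ∃ e : ℕ, (K p).index = (p : ℕ) ^ e) (g : Nat.Primes → G) :
    ∃ x : G, ∀ p, (g p)⁻¹ * x ∈ K p := by
  classical
  set s : Finset Nat.Primes := ((Nat.card G).primeFactors).subtype Nat.Prime with hs
  obtain ⟨x, hx, -⟩ := exists_mem_cosets K g s fun i _ j _ hij => by
    obtain ⟨e, he⟩ := hK i
    obtain ⟨f, hf⟩ := hK j
    rw [he, hf]
    exact Nat.Coprime.pow e f ((Nat.coprime_primes i.2 j.2).2 fun h => hij (Subtype.ext h))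
  refine ⟨x, fun p => ?_⟩
  by_cases hp : p ∈ s
  · exact hx p hp
  · obtain ⟨e, he⟩ := hK p
    rcases Nat.eq_zero_or_pos e with h0 | h0
    · rw [h0, pow_zero, index_eq_one] at he
      rw [he]; exact mem_top _
    · refine absurd (Finset.mem_subtype.2 ?_ : p ∈ s) hp
      exact Nat.mem_primeFactors.2 ⟨p.2,
        (dvd_pow_self _ h0.ne').trans (he ▸ (K p).index_dvd_card), Nat.card_pos.ne'⟩

theorem not_dvd_card {K : Nat.Primes → Subgroup G} (hK : Cfsg.IsComplementSystem K)
    (p : Nat.Primes) : ¬ (p : ℕ) ∣ Nat.card (K p) := by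
  intro hd
  have h := (K p).card_mul_index
  rw [hK p] at h
  have : (p : ℕ) ^ ((Nat.card G).factorization p + 1) ∣ Nat.card G := by
    rw [pow_succ']
    exact (mul_dvd_mul_right hd _).trans (dvd_of_eq h)
  exact Nat.pow_succ_factorization_not_dvd Nat.card_pos.ne' p.2 this

/-- A subgroup of prime power index and order prime to that prime is a complement. -/
theorem isComplementSystem_of_pow {K : Nat.Primes → Subgroup G}
    (hi : ∀ p : Nat.Primes, ∃ e : ℕ, (K p).index = (p : ℕ) ^ e)
    (hc : ∀ p : Nat.Primes, ¬ (p : ℕ) ∣ Nat.card (K p)) : Cfsg.IsComplementSystem K := by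
  intro p
  obtain ⟨e, he⟩ := hi p
  rw [he, ← (K p).card_mul_index, he, Nat.factorization_mul Nat.card_pos.ne'
    (pow_ne_zero _ p.2.ne_zero)]
  simp [Nat.factorization_eq_zero_of_not_dvd (hc p), p.2.factorization]

theorem exists_isComplementSystem [Group.IsSolvable G] :
    ∃ K : Nat.Primes → Subgroup G, Cfsg.IsComplementSystem K := by
  have h : ∀ p : Nat.Primes, ∃ H : Subgroup G,
      H.index = (p : ℕ) ^ (Nat.card G).factorization p := by
    intro p
    have hd := Nat.ordProj_dvd (Nat.card G) p
    have hmul : Nat.card G = Nat.card G / (p : ℕ) ^ (Nat.card G).factorization p *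
        (p : ℕ) ^ (Nat.card G).factorization p := (Nat.div_mul_cancel hd).symm
    obtain ⟨H, hH⟩ := exists_hall hmul (Nat.Coprime.pow_right _
      (Nat.coprime_ordCompl p.2 Nat.card_pos.ne').symm)
    refine ⟨H, Nat.eq_of_mul_eq_mul_left (Nat.card_pos (α := H)) ?_⟩
    rw [H.card_mul_index, hH, ← hmul]
  choose K hK using h
  exact ⟨K, hK⟩

theorem isComplementSystem_conj {K : Nat.Primes → Subgroup G} (hK : Cfsg.IsComplementSystem K)
    (x : G) : Cfsg.IsComplementSystem (fun p => conjBy x (K p)) := fun p => by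
  show (conjBy x (K p)).index = _
  rw [conjBy, index_map_of_bijective (MulEquiv.bijective _)]
  exact hK p

theorem systemNormalizer_conj (K : Nat.Primes → Subgroup G) (x : G) :
    Cfsg.systemNormalizer (fun p => conjBy x (K p)) = conjBy x (Cfsg.systemNormalizer K) := by
  ext y
  simp only [Cfsg.systemNormalizer, mem_iInf, mem_conjBy]
  refine forall_congr' fun p => ?_
  rw [← conjBy_eq_self_iff, ← conjBy_eq_self_iff, conjBy_conjBy]
  constructor
  · intro h
    have := congrArg (conjBy x⁻¹) h
    rwa [conjBy_conjBy, conjBy_conjBy, inv_mul_cancel, conjBy_one, ← mul_assoc] at this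
  · intro h
    have := congrArg (conjBy x) h
    rwa [conjBy_conjBy, show x * (x⁻¹ * y * x) = y * x by group] at this

/-- Complement systems are conjugate. -/
theorem systems_conj [Group.IsSolvable G] {K L : Nat.Primes → Subgroup G}
    (hK : Cfsg.IsComplementSystem K) (hL : Cfsg.IsComplementSystem L) :
    ∃ x : G, ∀ p, conjBy x (K p) = L p := by
  have h : ∀ p : Nat.Primes, ∃ g : G, conjBy g (K p) = L p := by
    intro p
    have hcard : Nat.card (L p) = Nat.card (K p) := by
      refine Nat.eq_of_mul_eq_mul_right (Nat.pos_of_ne_zero (index_ne_zero_of_finite (H := L p))) ?_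
      conv_rhs => rw [hL p, ← hK p]
      rw [card_mul_index, card_mul_index]
    exact hall_conj (G := G) (K p).card_mul_index.symm
      (by rw [hK p]; exact Nat.Coprime.pow_right _ ((p.2.coprime_iff_not_dvd.2 (not_dvd_card hK p)).symm))
      rfl hcard
  choose g hg using h
  obtain ⟨x, hx⟩ := exists_mem_cosets_primes K (fun p => ⟨_, hK p⟩) g
  refine ⟨x, fun p => ?_⟩
  rw [← hg p, show x = g p * ((g p)⁻¹ * x) by group, ← conjBy_conjBy,
    conjBy_eq_self_iff.2 (le_normalizer (hx p))]

/-- A subgroup of order prime to `p` normalizing the `p`-complement lies in it. -/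
theorem le_of_normalizes {K : Nat.Primes → Subgroup G} (hK : Cfsg.IsComplementSystem K)
    (p : Nat.Primes) {U : Subgroup G} (hU : ¬ (p : ℕ) ∣ Nat.card U)
    (hn : U ≤ normalizer (K p : Set G)) : U ≤ K p := by
  have h1 : (K p).relIndex (K p ⊔ U) ∣ (p : ℕ) ^ (Nat.card G).factorization p := by
    rw [← hK p]; exact Dvd.intro _ (relIndex_mul_index le_sup_left)
  have h2 : (K p).relIndex (K p ⊔ U) ∣ Nat.card U := by
    refine Nat.dvd_of_mul_dvd_mul_left (Nat.card_pos (α := K p)) ?_
    rw [card_mul_relIndex le_sup_left, sup_comm, mul_comm]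
    exact card_sup_dvd_of_le_normalizer hn
  have h3 : (K p).relIndex (K p ⊔ U) = 1 :=
    Nat.eq_one_of_dvd_coprimes (Nat.Coprime.pow_left _ (p.2.coprime_iff_not_dvd.2 hU)) h1 h2
  exact le_sup_right.trans (relIndex_eq_one.1 h3)

theorem mem_systemNormalizer {K : Nat.Primes → Subgroup G} {x : G} :
    x ∈ Cfsg.systemNormalizer K ↔ ∀ p, x ∈ normalizer (K p : Set G) := by
  simp [Cfsg.systemNormalizer, mem_iInf]

theorem le_normalizer_of_systemNormalizer (K : Nat.Primes → Subgroup G) (p : Nat.Primes) :
    Cfsg.systemNormalizer K ≤ normalizer (K p : Set G) := fun _ hx => mem_systemNormalizer.1 hx p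

/-- The system normalizer is nilpotent. -/
theorem systemNormalizer_isNilpotent {K : Nat.Primes → Subgroup G}
    (hK : Cfsg.IsComplementSystem K) : Group.IsNilpotent (Cfsg.systemNormalizer K) := by
  set D := Cfsg.systemNormalizer K with hD
  refine (Group.isNilpotent_of_finite_tfae.out 0 3).2 fun r hr R => ?_
  haveI : Fact r.Prime := by first | exact hr | exact ⟨hr⟩
  let r' : Nat.Primes := ⟨r, (Fact.out : r.Prime)⟩
  set Q : Subgroup G := ⨅ p : {p : Nat.Primes // p ≠ r'}, K (p : Nat.Primes) with hQ
  have hQr : IsPGroup r Q := by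
    refine IsPGroup.iff_card.2 ⟨_, Nat.eq_prime_pow_of_unique_prime_dvd Nat.card_pos.ne'
      fun {s} hs hsd => ?_⟩
    by_contra hne
    exact not_dvd_card hK ⟨s, hs⟩ (hsd.trans (card_dvd_of_le
      (iInf_le (fun p : {p : Nat.Primes // p ≠ r'} => K (p : Nat.Primes))
        ⟨⟨s, hs⟩, fun e => hne (congrArg Subtype.val e)⟩)))
  have hDQ : D ≤ normalizer (Q : Set G) := by
    intro x hx
    refine mem_normalizer_iff.2 fun y => ?_
    simp only [hQ, mem_iInf]
    exact forall_congr' fun p => mem_normalizer_iff.1 (mem_systemNormalizer.1 hx p) y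
  haveI : (Q.subgroupOf D).Normal := by
    refine ⟨fun x hx g => ?_⟩
    exact (mem_normalizer_iff.1 (hDQ g.2) x).1 hx
  have hRQ : (R : Subgroup D) ≤ Q.subgroupOf D := by
    have h : (R : Subgroup D).map D.subtype ≤ Q := by
      refine le_iInf fun p => le_of_normalizes hK p ?_
        ((map_subtype_le _).trans (le_normalizer_of_systemNormalizer K p))
      obtain ⟨n, hn⟩ := IsPGroup.iff_card.1 (R.2.map D.subtype)
      rw [hn]
      exact fun hd => p.2 (Subtype.ext ((Nat.prime_dvd_prime_iff_eq (p : Nat.Primes).2 (Fact.out : r.Prime)).1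
        ((p : Nat.Primes).2.dvd_of_dvd_pow hd)))
    exact fun x hx => h (mem_map_of_mem _ hx)
  have he : (Q.subgroupOf D) = (R : Subgroup D) :=
    R.3 (hQr.comap_of_injective D.subtype D.subtype_injective) hRQ
  exact he ▸ inferInstance

/-- The image of a complement system in a quotient. -/
theorem isComplementSystem_map {K : Nat.Primes → Subgroup G} (hK : Cfsg.IsComplementSystem K)
    {H : Type*} [Group H] [Finite H] {f : G →* H} (hf : Function.Surjective f) :
    Cfsg.IsComplementSystem (fun p => (K p).map f) := by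
  refine isComplementSystem_of_pow (fun p => ?_) fun p hd => ?_
  · obtain ⟨e, -, he⟩ := (Nat.dvd_prime_pow p.2).1 ((hK p) ▸ index_map_dvd (K p) hf :
      ((K p).map f).index ∣ _)
    exact ⟨e, he⟩
  · exact not_dvd_card hK p (hd.trans (card_map_dvd_card f (K p)))

/-- `K` reduces into `X`. -/
def Reduces (K : Nat.Primes → Subgroup G) (X : Subgroup G) : Prop :=
  ∀ p : Nat.Primes, ∃ e : ℕ, (K p).relIndex X = (p : ℕ) ^ e

theorem isComplementSystem_subgroupOf {K : Nat.Primes → Subgroup G}
    (hK : Cfsg.IsComplementSystem K) {X : Subgroup G} (hX : Reduces K X) :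
    Cfsg.IsComplementSystem (fun p => (K p).subgroupOf X) := by
  refine isComplementSystem_of_pow hX fun p hd => not_dvd_card hK p (hd.trans ?_)
  rw [← card_map_of_injective (K := (K p).subgroupOf X) X.subtype_injective, subgroupOf_map_subtype]
  exact card_dvd_of_le inf_le_left

theorem reduces_normal {K : Nat.Primes → Subgroup G} (hK : Cfsg.IsComplementSystem K)
    (N : Subgroup G) [N.Normal] : Reduces K N := fun p => by
  have h1 : (K p).relIndex N ∣ (p : ℕ) ^ (Nat.card G).factorization p :=
    hK p ▸ CfsgLib.PGroup.relIndex_dvd_index_normal_right (K p) N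
  obtain ⟨e, -, he⟩ := (Nat.dvd_prime_pow p.2).1 h1
  exact ⟨e, he⟩

/-- The system normalizer maps onto that of the quotient. -/
theorem systemNormalizer_map [Group.IsSolvable G] {K : Nat.Primes → Subgroup G}
    (hK : Cfsg.IsComplementSystem K) (N : Subgroup G) [N.Normal] :
    Cfsg.systemNormalizer (fun p => (K p).map (QuotientGroup.mk' N)) =
      (Cfsg.systemNormalizer K).map (QuotientGroup.mk' N) := by
  set f := QuotientGroup.mk' N with hf
  refine le_antisymm (fun y hy => ?_) ?_
  swap
  · rintro _ ⟨x, hx, rfl⟩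
    exact mem_systemNormalizer.2 fun p =>
      le_normalizer_map f (mem_map_of_mem f (mem_systemNormalizer.1 hx p))
  obtain ⟨g, rfl⟩ := QuotientGroup.mk'_surjective N y
  -- each member moves inside `N`
  have h : ∀ p : Nat.Primes, ∃ n : N, conjBy (n : G) (K p) = conjBy g (K p) := by
    intro p
    set L := K p ⊔ N with hL
    have hgK : conjBy g (K p) ≤ L := by
      rintro _ ⟨k, hk, rfl⟩
      have h1 := (mem_normalizer_iff.1 (mem_systemNormalizer.1 hy p) _).1 (mem_map_of_mem f hk)
      rw [hf, ← map_inv, ← map_mul, ← map_mul, ← hf, ← mem_comap, comap_map_eq, hf,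
        QuotientGroup.ker_mk'] at h1
      exact h1
    have hrel : ∀ H : Subgroup G, H ≤ L → H.index = (p : ℕ) ^ (Nat.card G).factorization p →
        IsPiNum {(p : ℕ)}ᶜᶜ (H.relIndex L) := by
      intro H hHL hH q hq hqd
      rw [compl_compl]
      exact (Nat.prime_dvd_prime_iff_eq hq p.2).1 (hq.dvd_of_dvd_pow
        (hqd.trans (hH ▸ Dvd.intro _ (relIndex_mul_index hHL))))
    have hpi : IsPiNum ({(p : ℕ)}ᶜ : Set ℕ) (Nat.card (K p)) := fun q _ hqd hqp =>
      not_dvd_card hK p ((hqp : q = (p : ℕ)) ▸ hqd)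
    obtain ⟨x, hxL, hx⟩ := IsHallIn.exists_conj (π := ({(p : ℕ)}ᶜ : Set ℕ))
      (H := K p) (K := conjBy g (K p)) (L := L) ⟨le_sup_left, hpi, hrel _ le_sup_left (hK p)⟩
      ⟨hgK, by rw [card_conjBy]; exact hpi, hrel _ hgK (by
        rw [conjBy, index_map_of_bijective (MulEquiv.bijective _)]; exact hK p)⟩ inferInstance
    rw [hL, sup_comm] at hxL
    obtain ⟨n, hn, k, hk, rfl⟩ := mem_sup_exists (N := N) (H := K p)
      (by rw [normalizer_eq_top (H := N)]; exact le_top) hxL
    refine ⟨⟨n, hn⟩, ?_⟩
    rw [← hx, ← conjBy_conjBy, conjBy_eq_self_iff.2 (le_normalizer hk)]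
  choose n hn using h
  obtain ⟨x, hx⟩ := exists_mem_cosets_primes (G := N) (fun p => (K p).subgroupOf N)
    (reduces_normal hK N) n
  refine ⟨(x : G)⁻¹ * g, mem_systemNormalizer.2 fun p => ?_, ?_⟩
  · have h1 : conjBy (x : G) (K p) = conjBy g (K p) := by
      rw [← hn p, show (x : G) = (n p : G) * ((n p : G)⁻¹ * x) by group, ← conjBy_conjBy,
        conjBy_eq_self_iff.2 (le_normalizer (show (n p : G)⁻¹ * (x : G) ∈ K p from hx p))]
    rw [← conjBy_eq_self_iff, ← conjBy_conjBy, ← h1, conjBy_conjBy, inv_mul_cancel, conjBy_one]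
  · rw [map_mul, map_inv, show f (x : G) = 1 from (QuotientGroup.eq_one_iff _).2 x.2, inv_one, one_mul]

/-- A noncentral minimal normal subgroup meets every system normalizer trivially. -/
theorem minimal_inf_systemNormalizer_eq_bot [Group.IsSolvable G] {K : Nat.Primes → Subgroup G}
    (hK : Cfsg.IsComplementSystem K) {N : Subgroup G} [N.Normal] (hN0 : N ≠ ⊥)
    (hmin : ∀ M : Subgroup G, M.Normal → M ≤ N → M = ⊥ ∨ M = N) (hnc : ¬ N ≤ center G) :
    N ⊓ Cfsg.systemNormalizer K = ⊥ := by
  obtain ⟨-, q, hq, hNq⟩ := minimal_normal_solvable hN0 hmin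
  haveI := Fact.mk hq
  have hNp : IsPGroup q N := fun x => ⟨1, Subtype.ext (by simpa using hNq x x.2)⟩
  set q' : Nat.Primes := ⟨q, hq⟩
  by_contra hne
  obtain ⟨x, ⟨hxN, hxD⟩, hx1⟩ : ∃ x ∈ N ⊓ Cfsg.systemNormalizer K, x ≠ 1 := by
    by_contra hc
    push Not at hc
    exact hne ((eq_bot_iff_forall _).2 hc)
  have hNK : N ⊓ K q' = ⊥ := by
    obtain ⟨n, hn⟩ := IsPGroup.iff_card.1 hNp
    refine disjoint_of_coprime_card ?_
    rw [hn]
    exact Nat.Coprime.pow_left n (hq.coprime_iff_not_dvd.2 (not_dvd_card hK q'))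
  have hxK : ∀ k ∈ K q', k * x = x * k := by
    intro k hk
    have h : x * k * x⁻¹ * k⁻¹ ∈ N ⊓ K q' := by
      refine ⟨?_, (K q').mul_mem ((mem_normalizer_iff.1 (mem_systemNormalizer.1 hxD q') k).1 hk)
        ((K q').inv_mem hk)⟩
      rw [show x * k * x⁻¹ * k⁻¹ = x * (k * x⁻¹ * k⁻¹) by group]
      exact N.mul_mem hxN (Normal.conj_mem inferInstance _ (N.inv_mem hxN) k)
    rw [hNK, mem_bot, mul_inv_eq_one, mul_inv_eq_iff_eq_mul] at h
    exact h.symm
  set C := centralizer (N : Set G) with hC
  haveI : Nontrivial (G ⧸ C) := QuotientGroup.nontrivial_iff.2 fun e => hnc fun z hz =>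
    mem_center_iff.2 fun y => (mem_centralizer_iff.1 (e ▸ mem_top y : y ∈ C) z hz).symm
  obtain ⟨M, r, hMn, hM0, hr, hMp, -⟩ := exists_normal_pGroup_of_isSolvable (G := G ⧸ C)
  haveI := Fact.mk hr
  haveI := hMn
  set f := QuotientGroup.mk' C
  set T := M.comap f
  have hCT : C ≤ T := by
    conv_lhs => rw [← QuotientGroup.ker_mk' C]
    exact ker_le_comap f M
  -- `T` has a fixed point on `N`
  have hfix : N ⊓ centralizer (T : Set G) ≠ ⊥ := by
    by_cases hrq : r = q
    · subst hrq
      obtain ⟨P⟩ : Nonempty (Sylow r T) := inferInstance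
      set PT := (P : Subgroup T).map T.subtype
      have hTPC : T ≤ PT ⊔ C := by
        refine relIndex_eq_one.1 (Nat.eq_one_of_dvd_coprimes
          (a := C.relIndex T) (b := PT.relIndex T) ?_ ?_ ?_)
        · obtain ⟨n, hn⟩ := IsPGroup.iff_card.1 hMp
          have e : C.relIndex T = Nat.card M := by
            rw [← card_map_mk'_eq_relIndex hCT, map_comap_eq_self_of_surjective (QuotientGroup.mk'_surjective C)]
          rw [e, hn]
          refine Nat.Coprime.pow_left n (hr.coprime_iff_not_dvd.2 ?_)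
          rw [relIndex, subgroupOf, comap_map_eq_self_of_injective T.subtype_injective]
          exact P.not_dvd_index
        · exact relIndex_dvd_of_le_left T le_sup_right
        · exact relIndex_dvd_of_le_left T le_sup_left
      have hS : IsPGroup r (N ⊔ PT : Subgroup G) := hNp.to_sup_of_normal_left (P.2.map _)
      haveI := hS.isNilpotent
      have h0 := nilpotent_inf_center_ne_bot (N.subgroupOf (N ⊔ PT)) fun e => hN0 (by
        rw [← map_subgroupOf_eq_of_le (le_sup_left : N ≤ N ⊔ PT), e, Subgroup.map_bot])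
      intro hb
      refine h0 ((eq_bot_iff_forall _).2 fun z hz => Subtype.ext ?_)
      have hzT : (z : G) ∈ N ⊓ centralizer (T : Set G) := by
        refine ⟨hz.1, ?_⟩
        have hle : PT ⊔ C ≤ centralizer {(z : G)} := sup_le
          (fun y hy => mem_centralizer_singleton_iff.2 (congrArg Subtype.val
            (mem_center_iff.1 hz.2 ⟨y, mem_sup_right hy⟩)))
          fun y hy => mem_centralizer_singleton_iff.2 (mem_centralizer_iff.1 hy _ hz.1).symm
        exact mem_centralizer_iff.2 fun y hy => mem_centralizer_singleton_iff.1 (hle (hTPC hy))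
      rw [hb, mem_bot] at hzT
      exact hzT
    · have hTK : T ≤ (K q' ⊓ T) ⊔ C := by
        refine relIndex_eq_one.1 (Nat.eq_one_of_dvd_coprimes
          (a := C.relIndex T) (b := (K q' ⊓ T).relIndex T) ?_ ?_ ?_)
        · obtain ⟨n, hn⟩ := IsPGroup.iff_card.1 hMp
          have e : C.relIndex T = Nat.card M := by
            rw [← card_map_mk'_eq_relIndex hCT, map_comap_eq_self_of_surjective (QuotientGroup.mk'_surjective C)]
          obtain ⟨j, hj⟩ := reduces_normal hK T q'
          rw [e, hn, inf_relIndex_right, hj]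
          exact Nat.Coprime.pow n j ((Nat.coprime_primes hr hq).2 hrq)
        · exact relIndex_dvd_of_le_left T le_sup_right
        · exact relIndex_dvd_of_le_left T le_sup_left
      intro hb
      refine hx1 (mem_bot.1 (hb ▸ (⟨hxN, ?_⟩ : x ∈ N ⊓ centralizer (T : Set G))))
      have hle : (K q' ⊓ T) ⊔ C ≤ centralizer {x} := sup_le
        (fun y hy => mem_centralizer_singleton_iff.2 (hxK y hy.1))
        fun y hy => mem_centralizer_singleton_iff.2 (mem_centralizer_iff.1 hy _ hxN).symm
      exact mem_centralizer_iff.2 fun y hy => mem_centralizer_singleton_iff.1 (hle (hTK hy))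
  have hNT : N ≤ centralizer (T : Set G) := by
    haveI : (N ⊓ centralizer (T : Set G)).Normal := inferInstance
    exact inf_eq_left.1 ((hmin _ inferInstance inf_le_left).resolve_left hfix)
  refine hM0 ?_
  rw [← map_comap_eq_self_of_surjective (QuotientGroup.mk'_surjective C) M, Subgroup.map_eq_bot_iff,
    QuotientGroup.ker_mk']
  exact le_centralizer_iff.1 hNT
where
  card_map_mk'_eq_relIndex {C T : Subgroup G} [C.Normal] (h : C ≤ T) :
      Nat.card (T.map (QuotientGroup.mk' C)) = C.relIndex T :=
    Nat.eq_of_mul_eq_mul_left Nat.card_pos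
      ((card_eq_card_mul_card_map_mk' C h).symm.trans (card_mul_relIndex h).symm)

/-- A central minimal normal subgroup lies in every system normalizer. -/
theorem center_le_systemNormalizer (K : Nat.Primes → Subgroup G) :
    center G ≤ Cfsg.systemNormalizer K := fun x hx => mem_systemNormalizer.2 fun p =>
  center_le_normalizer _ hx

/-- Covering and avoidance. -/
theorem covers_avoids [Group.IsSolvable G] {K : Nat.Primes → Subgroup G}
    (hK : Cfsg.IsComplementSystem K) (A B : Subgroup G) [A.Normal] [B.Normal] (hAB : A < B)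
    (hchief : ∀ N : Subgroup G, N.Normal → A ≤ N → N ≤ B → N = A ∨ N = B) :
    (⁅B, (⊤ : Subgroup G)⁆ ≤ A → B ≤ A ⊔ Cfsg.systemNormalizer K) ∧
      (¬ ⁅B, (⊤ : Subgroup G)⁆ ≤ A → B ⊓ Cfsg.systemNormalizer K ≤ A) := by
  set f := QuotientGroup.mk' A with hf
  have hfs : Function.Surjective f := QuotientGroup.mk'_surjective A
  haveI : (B.map f).Normal := Normal.map inferInstance f hfs
  have hcen : ⁅B, (⊤ : Subgroup G)⁆ ≤ A ↔ B.map f ≤ center (G ⧸ A) := by
    have hk := Subgroup.map_eq_bot_iff (f := f) (H := ⁅B, (⊤ : Subgroup G)⁆)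
    rw [show f.ker = A from QuotientGroup.ker_mk' A] at hk
    rw [← hk, map_commutator,
      Subgroup.map_top_of_surjective f hfs, commutator_eq_bot_iff_le_centralizer, coe_top,
      centralizer_univ]
  have hsys := systemNormalizer_map hK A
  refine ⟨fun h => ?_, fun h => ?_⟩
  · have h1 : B.map f ≤ (Cfsg.systemNormalizer K).map f :=
      hsys ▸ (hcen.1 h).trans (center_le_systemNormalizer _)
    rw [map_le_iff_le_comap, comap_map_eq, QuotientGroup.ker_mk', sup_comm] at h1
    exact h1
  · have h1 := minimal_inf_systemNormalizer_eq_bot (isComplementSystem_map hK hfs) (N := B.map f)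
      (fun e => hAB.not_ge (by rwa [Subgroup.map_eq_bot_iff, QuotientGroup.ker_mk'] at e))
      (fun M hM hMB => by
        have hker : A ≤ M.comap f := by
          conv_lhs => rw [← QuotientGroup.ker_mk' A]
          exact ker_le_comap f M
        rcases hchief (M.comap f) inferInstance hker ((comap_mono hMB).trans (le_of_eq
          (comap_map_eq_self (by rw [QuotientGroup.ker_mk']; exact hAB.le)))) with e | e
        · left
          rw [← map_comap_eq_self_of_surjective hfs M, e, hf, QuotientGroup.map_mk'_self]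
        · right
          rw [← map_comap_eq_self_of_surjective hfs M, e])
      (fun e => h (hcen.2 e))
    intro x hx
    rw [hsys] at h1
    have h2 : f x ∈ B.map f ⊓ (Cfsg.systemNormalizer K).map f :=
      ⟨mem_map_of_mem f hx.1, mem_map_of_mem f hx.2⟩
    rw [h1, mem_bot] at h2
    exact (QuotientGroup.eq_one_iff x).1 h2

/-- The system normalizer lies in no proper normal subgroup. -/
theorem normalClosure_systemNormalizer [Group.IsSolvable G] {K : Nat.Primes → Subgroup G}
    (hK : Cfsg.IsComplementSystem K) :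
    normalClosure ((Cfsg.systemNormalizer K : Subgroup G) : Set G) = ⊤ := by
  by_contra hne
  obtain ⟨M, hle, hM⟩ := exists_maximal_ge_of_wellFoundedGT
    (fun M : Subgroup G => M.Normal ∧ M ≠ ⊤) _ ⟨normalClosure_normal, hne⟩
  obtain ⟨hMn, hMtop⟩ := hM.prop
  haveI := hMn
  have hcomm : ⁅(⊤ : Subgroup G), (⊤ : Subgroup G)⁆ ≤ M := by
    by_contra hc
    haveI : (M ⊔ commutator G).Normal := inferInstance
    have htop : M ⊔ commutator G = ⊤ := by
      by_contra ht
      refine hc ?_
      rw [← _root_.commutator_def]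
      exact le_sup_right.trans (hM.le_of_ge ⟨inferInstance, ht⟩ le_sup_left)
    haveI : Nontrivial (G ⧸ M) := QuotientGroup.nontrivial_iff.2 hMtop
    refine ne_of_lt (Group.IsSolvable.commutator_lt_top_of_nontrivial (G ⧸ M)) ?_
    have h2 := congrArg (Subgroup.map (QuotientGroup.mk' M)) htop
    rwa [Subgroup.map_sup, QuotientGroup.map_mk'_self, bot_sup_eq, _root_.commutator_def,
      map_commutator, Subgroup.map_top_of_surjective _ (QuotientGroup.mk'_surjective M)] at h2
  have h := (covers_avoids hK M ⊤ (lt_top_iff_ne_top.2 hMtop) fun N hN hMN _ => by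
    by_cases hN' : N = ⊤
    · exact Or.inr hN'
    · exact Or.inl (le_antisymm (hM.le_of_ge ⟨hN, hN'⟩ hMN) hMN)).1 hcomm
  have hDM : Cfsg.systemNormalizer K ≤ M := fun x hx => hle (Subgroup.subset_normalClosure hx)
  rw [sup_eq_left.2 hDM] at h
  exact hMtop (top_le_iff.1 h)

end CfsgLib.Coprime.System
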