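import Cfsg.Agent.Lib.Coprime.System.Basic

/-!
# Carter subgroups of solvable groups

Existence, conjugacy, containment of system normalizers, and coincidence with the system normalizers
when the group is nilpotent-by-nilpotent.
-/

set_option autoImplicit false
set_option linter.unusedSectionVars false

namespace CfsgLib.Coprime.System

open Subgroup

universe u

/-- A nilpotent group has no proper self-normalizing subgroup. -/
theorem eq_top_of_self_normalizing {G : Type u} [Group G] [Group.IsNilpotent G] {H : Subgroup G}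
    (h : normalizer (H : Set G) = H) : H = ⊤ := by
  by_contra hne
  exact (Group.normalizerCondition_of_isNilpotent (G := G) H (lt_top_iff_ne_top.2 hne)).ne h.symm

variable {G : Type u} [Group G] [Finite G]

/-- The quotient of a nilpotent group by its `p'`-core is a `p`-group. -/
theorem isPGroup_quotient_pPrimeCore {F : Type u} [Group F] [Finite F] [Group.IsNilpotent F]
    (q : ℕ) [hq : Fact q.Prime] [(Cfsg.pPrimeCore q F).Normal] :
    IsPGroup q (F ⧸ Cfsg.pPrimeCore q F) := by
  refine IsPGroup.iff_card.2 ⟨_, Nat.eq_prime_pow_of_unique_prime_dvd Nat.card_pos.ne' ?_⟩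
  intro r hr hrd
  by_contra hne
  haveI : Fact r.Prime := ⟨hr⟩
  haveI : Group.IsNilpotent (F ⧸ Cfsg.pPrimeCore q F) :=
    Group.nilpotent_of_surjective _ (QuotientGroup.mk'_surjective _)
  obtain ⟨S⟩ : Nonempty (Sylow r (F ⧸ Cfsg.pPrimeCore q F)) := inferInstance
  haveI : (S : Subgroup (F ⧸ Cfsg.pPrimeCore q F)).Normal := inferInstance
  have h2 : (Nat.card (S : Subgroup (F ⧸ Cfsg.pPrimeCore q F))).Coprime q := by
    obtain ⟨n, hn⟩ := IsPGroup.iff_card.1 S.2
    rw [hn]
    exact Nat.Coprime.pow_left n ((Nat.coprime_primes hr hq.out).2 hne)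
  have h3 := le_pPrimeCore h2
  rw [pPrimeCore_quotient_eq_bot hq.out, le_bot_iff] at h3
  exact S.ne_bot_of_dvd_card hrd h3

theorem isCarter_conjBy {C : Subgroup G} (hC : Cfsg.IsCarterSubgroup C) (g : G) :
    Cfsg.IsCarterSubgroup (conjBy g C) := by
  refine ⟨?_, ?_⟩
  · haveI := hC.1
    exact Group.nilpotent_of_mulEquiv (C.equivMapOfInjective _ (MulEquiv.injective _))
  · rw [← conjBy_normalizer', hC.2]
where
  conjBy_normalizer' : conjBy g (normalizer (C : Set G)) = normalizer (conjBy g C : Set G) :=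
    map_equiv_normalizer_eq C (MulAut.conj g)

theorem normalizer_subgroupOf_eq {C X : Subgroup G} (hC : normalizer (C : Set G) = C) (hle : C ≤ X) :
    normalizer ((C.subgroupOf X : Subgroup X) : Set X) = C.subgroupOf X := by
  refine le_antisymm (fun x hx => ?_) le_normalizer
  show (x : G) ∈ C
  rw [← hC]
  have h := le_normalizer_map X.subtype (mem_map_of_mem X.subtype hx)
  rwa [map_subgroupOf_eq_of_le hle] at h

theorem isCarter_subgroupOf {C X : Subgroup G} (hC : Cfsg.IsCarterSubgroup C) (hle : C ≤ X) :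
    Cfsg.IsCarterSubgroup (C.subgroupOf X) := by
  refine ⟨?_, normalizer_subgroupOf_eq hC.2 hle⟩
  haveI := hC.1
  exact Group.nilpotent_of_mulEquiv (subgroupOfEquivOfLe hle).symm

theorem isCarter_top [Group.IsNilpotent G] : Cfsg.IsCarterSubgroup (⊤ : Subgroup G) :=
  ⟨Group.nilpotent_of_mulEquiv (Subgroup.topEquiv (G := G)).symm, normalizer_eq_top _⟩

/-- The image of a Carter subgroup, given conjugacy in proper subgroups. -/
theorem isCarter_map_of_conj
    (hconj : ∀ X : Subgroup G, X ≠ ⊤ → ∀ C D : Subgroup X, Cfsg.IsCarterSubgroup C →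
      Cfsg.IsCarterSubgroup D → ∃ g : X, conjBy g C = D)
    {C : Subgroup G} (hC : Cfsg.IsCarterSubgroup C) (N : Subgroup G) [N.Normal] :
    Cfsg.IsCarterSubgroup (C.map (QuotientGroup.mk' N)) := by
  set f := QuotientGroup.mk' N with hf
  refine ⟨?_, le_antisymm ?_ le_normalizer⟩
  · haveI := hC.1
    exact Group.nilpotent_of_surjective (f.subgroupMap C) (f.subgroupMap_surjective C)
  intro y hy
  obtain ⟨g, rfl⟩ := QuotientGroup.mk'_surjective N y
  set X := C ⊔ N with hX
  have hcm : (C.map f).comap f = X := by rw [comap_map_eq, hf, QuotientGroup.ker_mk']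
  suffices hgX : g ∈ X by
    rw [← hcm] at hgX; exact hgX
  by_cases htop : X = ⊤
  · rw [htop]; trivial
  have hgC : conjBy g C ≤ X := by
    rintro _ ⟨c, hc, rfl⟩
    rw [← hcm, mem_comap]
    show f (g * c * g⁻¹) ∈ C.map f
    rw [map_mul, map_mul, map_inv]
    exact (mem_normalizer_iff.1 hy (f c)).1 (mem_map_of_mem f hc)
  obtain ⟨⟨x, hxX⟩, hx⟩ := hconj X htop _ _ (isCarter_subgroupOf hC (le_sup_left : C ≤ X))
    (isCarter_subgroupOf (isCarter_conjBy hC g) hgC)
  have h2 := congrArg (Subgroup.map X.subtype) hx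
  rw [conjBy_map, map_subgroupOf_eq_of_le (le_sup_left : C ≤ X), map_subgroupOf_eq_of_le hgC] at h2
  have h3 : x⁻¹ * g ∈ C := by
    rw [← hC.2, ← conjBy_eq_self_iff, ← conjBy_conjBy, ← h2, coe_subtype, conjBy_conjBy,
      inv_mul_cancel, conjBy_one]
  rw [show g = x * (x⁻¹ * g) by group]
  exact X.mul_mem hxX (mem_sup_left h3)

/-- Carter subgroups are conjugate. -/
theorem carter_conj_aux : ∀ (n : ℕ) (G : Type u) [Group G] [Finite G] [Group.IsSolvable G],
    Nat.card G = n → ∀ C D : Subgroup G, Cfsg.IsCarterSubgroup C → Cfsg.IsCarterSubgroup D →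
      ∃ g : G, conjBy g C = D := by
  intro n
  induction n using Nat.strong_induction_on with
  | _ n ih =>
  intro G _ _ _ hn C D hC hD
  have hsub : ∀ X : Subgroup G, X ≠ ⊤ → ∀ C D : Subgroup X, Cfsg.IsCarterSubgroup C →
      Cfsg.IsCarterSubgroup D → ∃ g : X, conjBy g C = D := fun X hX C D hC hD =>
    ih _ (hn ▸ lt_of_le_of_ne (card_le_card_group X) fun e => hX (eq_top_of_card_eq X e)) X rfl C D hC hD
  rcases subsingleton_or_nontrivial G with hs | hs
  · exact ⟨1, Subsingleton.elim _ _⟩
  obtain ⟨N, hNn, hN0, -, hmin⟩ := exists_minimal_normal_le (N := (⊤ : Subgroup G)) top_ne_bot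
  haveI := hNn
  set f := QuotientGroup.mk' N with hf
  obtain ⟨y, hy⟩ := ih _ (hn ▸ card_quotient_lt hN0) (G ⧸ N) rfl _ _
    (isCarter_map_of_conj hsub hC N) (isCarter_map_of_conj hsub hD N)
  obtain ⟨z, rfl⟩ := QuotientGroup.mk'_surjective N y
  -- replace `C` by its conjugate
  set C' := conjBy z C with hC'
  have hC'c : Cfsg.IsCarterSubgroup C' := isCarter_conjBy hC z
  have hsupeq : C' ⊔ N = D ⊔ N := by
    have h1 : C'.map f = D.map f := by rw [hC', ← hy, conjBy_map]
    have h2 := congrArg (Subgroup.comap f) h1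
    rwa [comap_map_eq, comap_map_eq, hf, QuotientGroup.ker_mk'] at h2
  suffices h : ∃ g : G, conjBy g C' = D by
    obtain ⟨g, hg⟩ := h
    exact ⟨g * z, by rw [← conjBy_conjBy]; exact hg⟩
  clear_value C'
  clear hy hC' hC C
  by_cases htop : C' ⊔ N = ⊤
  swap
  · obtain ⟨x, hx⟩ := hsub (C' ⊔ N) htop _ _ (isCarter_subgroupOf hC'c le_sup_left)
      (isCarter_subgroupOf hD (hsupeq ▸ (le_sup_left : D ≤ D ⊔ N)))
    refine ⟨x, ?_⟩
    have h2 := congrArg (Subgroup.map (C' ⊔ N).subtype) hx
    rwa [conjBy_map, map_subgroupOf_eq_of_le le_sup_left,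
      map_subgroupOf_eq_of_le (hsupeq ▸ (le_sup_left : D ≤ D ⊔ N))] at h2
  -- now `G = C N = D N`
  obtain ⟨hNc, q, hq, hNq⟩ := minimal_normal_solvable hN0 hmin
  haveI := Fact.mk hq
  have hNp : IsPGroup q N := fun x => ⟨1, Subtype.ext (by simpa using hNq x x.2)⟩
  by_cases hnil : Group.IsNilpotent G
  · exact ⟨1, by rw [conjBy_one, eq_top_of_self_normalizing hC'c.2, eq_top_of_self_normalizing hD.2]⟩
  have key : ∀ E : Subgroup G, Cfsg.IsCarterSubgroup E → E ⊔ N = ⊤ →
      ∃ H : Subgroup G, ¬ q ∣ Nat.card H ∧ (∃ e, H.index = q ^ e) ∧ normalizer (H : Set G) = E := by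
    intro E hE hEN
    haveI := hE.1
    haveI := pPrimeCore_characteristic (G := E) q
    set H := (Cfsg.pPrimeCore q E).map E.subtype with hH
    have hEH : E ≤ normalizer (H : Set G) := by
      refine le_trans ?_ (le_normalizer_map E.subtype)
      rw [normalizer_eq_top (H := Cfsg.pPrimeCore q E), ← MonoidHom.range_eq_map, range_subtype]
    have hEN0 : E ⊓ N = ⊥ := by
      haveI : (E ⊓ N).Normal := by
        rw [← normalizer_eq_top_iff, eq_top_iff, ← hEN]
        refine sup_le (inf_le_normalizer le_normalizer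
          (by rw [normalizer_eq_top (H := N)]; exact le_top)) fun a ha => mem_normalizer_iff.2 fun x => ?_
        constructor
        · intro hx; rwa [show a * x = x * a from hNc a ha x hx.2, mul_inv_cancel_right]
        · intro hx
          have hxN : x ∈ N := by simpa [mul_assoc] using hNn.conj_mem _ hx.2 a⁻¹
          rwa [show a * x = x * a from hNc a ha x hxN, mul_inv_cancel_right] at hx
      refine (hmin (E ⊓ N) inferInstance inf_le_right).resolve_right fun e => hnil ?_
      have hEt : E = ⊤ := by rw [← hEN, sup_eq_left.2 (inf_eq_right.1 e)]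
      rw [hEt] at hE
      haveI := hE.1
      exact Group.nilpotent_of_mulEquiv (Subgroup.topEquiv (G := G))
    have hHq : ¬ q ∣ Nat.card H := by
      rw [hH, card_map_of_injective E.subtype_injective]
      exact pPrimeCore_not_dvd hq
    have hquot := isPGroup_quotient_pPrimeCore (F := E) q
    obtain ⟨j, hj⟩ := IsPGroup.iff_card.1 hquot
    obtain ⟨i, hi⟩ := IsPGroup.iff_card.1 hNp
    have hidx : ∃ e, H.index = q ^ e := by
      refine ⟨j + i, ?_⟩
      rw [hH, index_map_subtype, pow_add, ← hj, index_eq_card]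
      congr 1
      have hc : IsComplement' N E := isComplement'_of_disjoint_and_mul_eq_univ
        (disjoint_iff.2 (by rw [inf_comm]; exact hEN0))
        (by rw [← Subgroup.normal_mul, sup_comm, hEN]; rfl)
      rw [hc.index_eq_card, hi]
    refine ⟨H, hHq, hidx, le_antisymm (fun g hg => ?_) hEH⟩
    obtain ⟨n, hn, e, he, rfl⟩ := mem_sup_exists (N := N) (H := E)
      (by rw [normalizer_eq_top (H := N)]; exact le_top) (show g ∈ N ⊔ E by rw [sup_comm, hEN]; trivial)
    set U := N ⊓ normalizer (H : Set G) with hU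
    have hnU : n ∈ U := by
      refine ⟨hn, ?_⟩
      have := (normalizer (H : Set G)).mul_mem hg ((normalizer (H : Set G)).inv_mem (hEH he))
      rwa [mul_inv_cancel_right] at this
    suffices hU0 : U = ⊥ by
      rw [hU0, mem_bot] at hnU
      rw [hnU, one_mul]; exact he
    have hUH : ∀ u ∈ U, ∀ h ∈ H, u * h = h * u := by
      intro u hu h hh
      have h0 : N ⊓ H = ⊥ := by
        refine disjoint_of_coprime_card ?_
        rw [hi]
        exact Nat.Coprime.pow_left i (hq.coprime_iff_not_dvd.2 hHq)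
      have h1 : u * h * u⁻¹ * h⁻¹ ∈ N ⊓ H := by
        refine ⟨?_, H.mul_mem ((mem_normalizer_iff.1 hu.2 h).1 hh) (H.inv_mem hh)⟩
        rw [show u * h * u⁻¹ * h⁻¹ = u * (h * u⁻¹ * h⁻¹) by group]
        exact N.mul_mem hu.1 (hNn.conj_mem _ (N.inv_mem hu.1) h)
      rw [h0, mem_bot, mul_inv_eq_one, mul_inv_eq_iff_eq_mul] at h1
      exact h1
    obtain ⟨P⟩ : Nonempty (Sylow q E) := inferInstance
    set Cq := (P : Subgroup E).map E.subtype with hCq
    have hEle : E ≤ H ⊔ Cq := by
      refine relIndex_eq_one.1 (Nat.eq_one_of_dvd_coprimes (a := H.relIndex E) (b := Cq.relIndex E)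
        ?_ (relIndex_dvd_of_le_left E le_sup_left) (relIndex_dvd_of_le_left E le_sup_right))
      rw [hH, relIndex, subgroupOf, comap_map_eq_self_of_injective E.subtype_injective, index_eq_card, hj,
        hCq, relIndex, subgroupOf, comap_map_eq_self_of_injective E.subtype_injective]
      exact Nat.Coprime.pow_left j (hq.coprime_iff_not_dvd.2 P.not_dvd_index)
    by_contra hU0
    have hS : IsPGroup q (N ⊔ Cq : Subgroup G) := hNp.to_sup_of_normal_left (P.2.map _)
    set S := U ⊔ Cq with hSdef
    have hSp : IsPGroup q S := hS.to_le (sup_le_sup_right inf_le_left Cq)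
    haveI := hSp.isNilpotent
    have hSU : S ≤ normalizer (U : Set G) := sup_le le_normalizer
      (inf_le_normalizer (by rw [normalizer_eq_top (H := N)]; exact le_top)
        (((map_subtype_le _).trans hEH).trans le_normalizer))
    haveI : (U.subgroupOf S).Normal := (normal_subgroupOf_iff_le_normalizer le_sup_left).2 hSU
    have h0 := nilpotent_inf_center_ne_bot (U.subgroupOf S) fun e => hU0 (by
      rw [← map_subgroupOf_eq_of_le (le_sup_left : U ≤ S), e, Subgroup.map_bot])
    refine h0 ((eq_bot_iff_forall _).2 fun z hz => Subtype.ext ?_)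
    have hzE : (z : G) ∈ E := by
      rw [← hE.2]
      refine centralizer_le_normalizer _ ?_
      have hle : H ⊔ Cq ≤ centralizer {(z : G)} := sup_le
        (fun h hh => mem_centralizer_singleton_iff.2 (hUH _ hz.1 h hh).symm)
        fun c hc => mem_centralizer_singleton_iff.2 (congrArg Subtype.val
          (mem_center_iff.1 hz.2 ⟨c, mem_sup_right hc⟩))
      exact mem_centralizer_iff.2 fun c hc => mem_centralizer_singleton_iff.1 (hle (hEle hc))
    exact mem_bot.1 (hEN0 ▸ (⟨hzE, hz.1.1⟩ : (z : G) ∈ E ⊓ N))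
  obtain ⟨H₁, h₁, ⟨a, ha⟩, hN₁⟩ := key C' hC'c htop
  obtain ⟨H₂, h₂, ⟨b, hb⟩, hN₂⟩ := key D hD (hsupeq ▸ htop)
  have hm₁ : Nat.card G = Nat.card H₁ * q ^ a := by rw [← ha, card_mul_index]
  have hm₂ : Nat.card G = Nat.card H₂ * q ^ b := by rw [← hb, card_mul_index]
  have hc₁ : (Nat.card H₁).Coprime (q ^ a) :=
    Nat.Coprime.pow_right a (hq.coprime_iff_not_dvd.2 h₁).symm
  have hc : Nat.card H₂ = Nat.card H₁ := Nat.dvd_antisymm
    (((hq.coprime_iff_not_dvd.2 h₂).symm.pow_right a).dvd_of_dvd_mul_right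
      ⟨q ^ b, (hm₁.symm.trans hm₂)⟩)
    (((hq.coprime_iff_not_dvd.2 h₁).symm.pow_right b).dvd_of_dvd_mul_right
      ⟨q ^ a, (hm₂.symm.trans hm₁)⟩)
  obtain ⟨x, hx⟩ := hall_conj hm₁ hc₁ (H := H₁) (K := H₂) rfl hc
  refine ⟨x, ?_⟩
  rw [← hN₁, ← hN₂, ← hx]
  exact map_equiv_normalizer_eq H₁ (MulAut.conj x)

theorem carter_conj [Group.IsSolvable G] {C D : Subgroup G} (hC : Cfsg.IsCarterSubgroup C)
    (hD : Cfsg.IsCarterSubgroup D) : ∃ g : G, conjBy g C = D :=
  carter_conj_aux _ G rfl C D hC hD

theorem isCarter_map [Group.IsSolvable G] {C : Subgroup G} (hC : Cfsg.IsCarterSubgroup C)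
    (N : Subgroup G) [N.Normal] : Cfsg.IsCarterSubgroup (C.map (QuotientGroup.mk' N)) :=
  isCarter_map_of_conj (fun _ _ _ _ h h' => carter_conj h h') hC N

/-- A Carter subgroup of the preimage of a Carter subgroup of a quotient is one of the group. -/
theorem isCarter_of_preimage [Group.IsSolvable G] (N : Subgroup G) [N.Normal]
    {Cb : Subgroup (G ⧸ N)} (hCb : Cfsg.IsCarterSubgroup Cb) {C : Subgroup G}
    (hle : C ≤ Cb.comap (QuotientGroup.mk' N))
    (hC : Cfsg.IsCarterSubgroup (C.subgroupOf (Cb.comap (QuotientGroup.mk' N)))) :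
    Cfsg.IsCarterSubgroup C := by
  set f := QuotientGroup.mk' N with hf
  set X := Cb.comap f with hX
  have hNX : N ≤ X := by
    conv_lhs => rw [← QuotientGroup.ker_mk' N]
    exact ker_le_comap f Cb
  refine ⟨?_, le_antisymm (fun g hg => ?_) le_normalizer⟩
  · haveI := hC.1
    exact Group.nilpotent_of_mulEquiv (subgroupOfEquivOfLe hle)
  have h1 := isCarter_map hC (N.subgroupOf X)
  haveI : Group.IsNilpotent (X ⧸ N.subgroupOf X) := by
    haveI := hCb.1
    let φ : X →* Cb := f.subgroupComap Cb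
    have hφ : φ.ker = N.subgroupOf X := by
      ext x
      simp only [MonoidHom.mem_ker, mem_subgroupOf, Subtype.ext_iff]
      exact QuotientGroup.eq_one_iff (x : G)
    refine Group.nilpotent_of_mulEquiv (MulEquiv.symm ((QuotientGroup.quotientMulEquivOfEq hφ.symm).trans
      (QuotientGroup.quotientKerEquivOfSurjective φ
        (MonoidHom.subgroupComap_surjective_of_surjective f Cb (QuotientGroup.mk'_surjective N)))))
  have h2 := eq_top_of_self_normalizing h1.2
  have h3 : C ⊔ N = X := by
    refine le_antisymm (sup_le hle hNX) fun x hx => ?_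
    obtain ⟨c, hc, he⟩ := h2.ge (mem_top (QuotientGroup.mk' (N.subgroupOf X) (⟨x, hx⟩ : X)))
    have h4 : c⁻¹ * (⟨x, hx⟩ : X) ∈ N.subgroupOf X := QuotientGroup.eq.1 he
    rw [show x = (c : G) * ((c : G)⁻¹ * x) by group]
    exact mul_mem_sup hc h4
  have hgX : g ∈ X := by
    have hgn : g ∈ normalizer (X : Set G) := by
      rw [← h3, ← conjBy_eq_self_iff, conjBy, Subgroup.map_sup]
      exact congrArg₂ _ (conjBy_eq_self_iff.2 hg)
        (conjBy_eq_self_iff.2 (by rw [normalizer_eq_top (H := N)]; trivial))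
    show f g ∈ Cb
    rw [← hCb.2]
    have h5 := le_normalizer_map f (mem_map_of_mem f hgn)
    rwa [hX, map_comap_eq_self_of_surjective (QuotientGroup.mk'_surjective N)] at h5
  have h6 : (⟨g, hgX⟩ : X) ∈ normalizer ((C.subgroupOf X : Subgroup X) : Set X) :=
    mem_normalizer_iff.2 fun y => mem_normalizer_iff.1 hg (y : G)
  rw [hC.2] at h6
  exact h6

/-- In a nilpotent group the system normalizer is everything. -/
theorem systemNormalizer_eq_top [Group.IsNilpotent G] {K : Nat.Primes → Subgroup G}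
    (hK : Cfsg.IsComplementSystem K) : Cfsg.systemNormalizer K = ⊤ := by
  refine eq_top_iff.2 fun x _ => mem_systemNormalizer.2 fun p => ?_
  have hN : normalizer (K p : Set G) = ⊤ := by
    refine eq_top_of_self_normalizing (le_antisymm (fun g hg => ?_) le_normalizer)
    have hgK : conjBy g (K p) ≤ normalizer (K p : Set G) := fun w ⟨k, hk, hkw⟩ =>
      hkw ▸ (mem_normalizer_iff.1 hg k).1 (le_normalizer hk)
    have h1 : conjBy g (K p) ≤ K p := le_of_normalizes hK p
      (by rw [card_conjBy]; exact not_dvd_card hK p) hgK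
    exact conjBy_eq_self_iff.1 (eq_of_le_of_card_ge h1 (card_conjBy g (K p)).ge)
  rw [hN]; trivial

/-- In a nilpotent-by-nilpotent group the system normalizers are Carter subgroups. -/
theorem isCarter_systemNormalizer_aux : ∀ (n : ℕ) (G : Type u) [Group G] [Finite G] [Group.IsSolvable G],
    Nat.card G = n → ∀ (K : Nat.Primes → Subgroup G), Cfsg.IsComplementSystem K →
    ∀ (F : Subgroup G) [F.Normal], Group.IsNilpotent F → Group.IsNilpotent (G ⧸ F) →
      Cfsg.IsCarterSubgroup (Cfsg.systemNormalizer K) := by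
  intro n
  induction n using Nat.strong_induction_on with
  | _ n ih =>
  intro G _ _ _ hn K hK F _ hF hGF
  refine ⟨systemNormalizer_isNilpotent hK, le_antisymm (fun g hg => ?_) le_normalizer⟩
  set D := Cfsg.systemNormalizer K with hD
  rcases subsingleton_or_nontrivial G with hs | hs
  · rw [Subsingleton.elim g 1]; exact D.one_mem
  obtain ⟨N, hNn, hN0, -, hmin⟩ := exists_minimal_normal_le (N := (⊤ : Subgroup G)) top_ne_bot
  haveI := hNn
  obtain ⟨hNc, q, hq, -⟩ := minimal_normal_solvable hN0 hmin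
  set f := QuotientGroup.mk' N with hf
  have hfs : Function.Surjective f := QuotientGroup.mk'_surjective N
  haveI : (F.map f).Normal := Normal.map inferInstance f hfs
  have hFf : Group.IsNilpotent (F.map f) := by
    haveI := hF
    exact Group.nilpotent_of_surjective (f.subgroupMap F) (f.subgroupMap_surjective F)
  have hquot : Group.IsNilpotent ((G ⧸ N) ⧸ F.map f) := by
    haveI := hGF
    refine Group.nilpotent_of_surjective (QuotientGroup.map F (F.map f) f (le_comap_map f F)) ?_
    intro y
    obtain ⟨z, rfl⟩ := QuotientGroup.mk'_surjective (F.map f) y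
    obtain ⟨w, rfl⟩ := hfs z
    exact ⟨QuotientGroup.mk w, rfl⟩
  have hIH := ih _ (hn ▸ card_quotient_lt hN0) (G ⧸ N) rfl _ (isComplementSystem_map hK hfs)
    (F.map f) hFf hquot
  rw [systemNormalizer_map hK N, ← hD] at hIH
  have hgm : f g ∈ D.map f := by
    rw [← hIH.2]; exact le_normalizer_map f (mem_map_of_mem f hg)
  obtain ⟨d, hd, he⟩ := hgm
  have hn' : d⁻¹ * g ∈ N := QuotientGroup.eq.1 he
  set m := d⁻¹ * g with hm
  have hgm' : g = d * m := by rw [hm]; group
  rw [hgm']
  refine D.mul_mem hd ?_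
  by_cases hcen : N ≤ center G
  · exact center_le_systemNormalizer K (hcen hn')
  have hbot := minimal_inf_systemNormalizer_eq_bot hK hN0 hmin hcen
  suffices hm1 : m = 1 by rw [hm1]; exact D.one_mem
  have hmD : m ∈ normalizer (D : Set G) := by
    rw [hm]
    exact (normalizer (D : Set G)).mul_mem ((normalizer (D : Set G)).inv_mem (le_normalizer hd)) hg
  have hcD : ∀ x ∈ D, x * m = m * x := by
    intro x hx
    have h : m * x * m⁻¹ * x⁻¹ ∈ N ⊓ D := by
      refine ⟨?_, D.mul_mem ((mem_normalizer_iff.1 hmD x).1 hx) (D.inv_mem hx)⟩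
      rw [show m * x * m⁻¹ * x⁻¹ = m * (x * m⁻¹ * x⁻¹) by group]
      exact N.mul_mem hn' (hNn.conj_mem _ (N.inv_mem hn') x)
    rw [hbot, mem_bot, mul_inv_eq_one, mul_inv_eq_iff_eq_mul] at h
    exact h.symm
  have hNF : N ≤ centralizer (F : Set G) := by
    haveI : (N ⊓ F).Normal := inferInstance
    rcases hmin (N ⊓ F) inferInstance inf_le_left with e | e
    · intro a ha
      refine mem_centralizer_iff.2 fun x hx => ?_
      exact ((commute_of_normal_of_disjoint N F hNn inferInstance (disjoint_iff.2 e) a x ha hx).eq).symm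
    · rw [inf_eq_left] at e
      haveI := hF
      refine inf_eq_left.1 ((hmin (N ⊓ centralizer (F : Set G)) inferInstance inf_le_left).resolve_left ?_)
      intro hb
      refine nilpotent_inf_center_ne_bot (N.subgroupOf F) (fun h0 => hN0 (by
        rw [← map_subgroupOf_eq_of_le e, h0, Subgroup.map_bot])) ((eq_bot_iff_forall _).2 fun z hz => ?_)
      have hz' : (z : G) ∈ N ⊓ centralizer (F : Set G) := ⟨hz.1, mem_centralizer_iff.2 fun x hx =>
        congrArg Subtype.val (mem_center_iff.1 hz.2 ⟨x, hx⟩)⟩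
      rw [hb, mem_bot] at hz'
      exact Subtype.ext hz'
  have hFD : F ⊔ D = ⊤ := by
    haveI := hGF
    have h1 := systemNormalizer_eq_top (isComplementSystem_map hK (QuotientGroup.mk'_surjective F))
    rw [systemNormalizer_map hK F] at h1
    have h2 := congrArg (Subgroup.comap (QuotientGroup.mk' F)) h1
    rwa [comap_map_eq, QuotientGroup.ker_mk', comap_top, sup_comm] at h2
  have hmc : m ∈ center G := by
    refine mem_center_iff.2 fun y => ?_
    have hle : F ⊔ D ≤ centralizer {m} := sup_le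
      (fun x hx => mem_centralizer_singleton_iff.2 (mem_centralizer_iff.1 (hNF hn') x hx))
      fun x hx => mem_centralizer_singleton_iff.2 (hcD x hx)
    exact mem_centralizer_singleton_iff.1 (hle (hFD ▸ mem_top y))
  haveI : (N ⊓ center G).Normal := inferInstance
  have h0 := (hmin (N ⊓ center G) inferInstance inf_le_left).resolve_right fun e => hcen (inf_eq_left.1 e)
  exact mem_bot.1 (h0 ▸ (⟨hn', hmc⟩ : m ∈ N ⊓ center G))

/-- In a nilpotent-by-nilpotent group the system normalizers are Carter subgroups. -/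
theorem isCarter_systemNormalizer [Group.IsSolvable G] {K : Nat.Primes → Subgroup G}
    (hK : Cfsg.IsComplementSystem K) (F : Subgroup G) [F.Normal] (hF : Group.IsNilpotent F)
    (hGF : Group.IsNilpotent (G ⧸ F)) : Cfsg.IsCarterSubgroup (Cfsg.systemNormalizer K) :=
  isCarter_systemNormalizer_aux _ G rfl K hK F hF hGF

/-- The relative index of a subgroup in its product with a normal one. -/
theorem relIndex_sup_normal (H N : Subgroup G) [N.Normal] :
    H.relIndex (H ⊔ N) = H.relIndex N := by
  refine Nat.eq_of_mul_eq_mul_left (Nat.card_pos (α := H)) ?_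
  rw [card_mul_relIndex le_sup_left, ← card_mul_relIndex (le_sup_right : N ≤ H ⊔ N),
    relIndex_sup_right]
  conv_lhs => rw [← card_mul_relIndex (inf_le_right : H ⊓ N ≤ N), inf_relIndex_right]
  conv_rhs => rw [← card_mul_relIndex (inf_le_left : H ⊓ N ≤ H), inf_relIndex_left]
  ring

/-- A complement system reduces into its system normalizer. -/
theorem reduces_systemNormalizer {K : Nat.Primes → Subgroup G} (hK : Cfsg.IsComplementSystem K) :
    Reduces K (Cfsg.systemNormalizer K) := fun p => by
  set D := Cfsg.systemNormalizer K with hD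
  refine ⟨_, Nat.eq_prime_pow_of_unique_prime_dvd index_ne_zero_of_finite fun {r} hr hrd => ?_⟩
  by_contra hne
  haveI := Fact.mk hr
  obtain ⟨R⟩ : Nonempty (Sylow r D) := inferInstance
  have hle : (R : Subgroup D) ≤ (K p).subgroupOf D := by
    intro x hx
    refine le_of_normalizes hK p (U := (R : Subgroup D).map D.subtype) ?_
      ((map_subtype_le _).trans (le_normalizer_of_systemNormalizer K p)) (mem_map_of_mem D.subtype hx)
    obtain ⟨n, hn⟩ := IsPGroup.iff_card.1 (R.2.map D.subtype)
    rw [hn]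
    exact fun hd => hne ((Nat.prime_dvd_prime_iff_eq p.2 hr).1 (p.2.dvd_of_dvd_pow hd)).symm
  exact R.not_dvd_index (hrd.trans (index_dvd_of_le hle))

/-- Every system normalizer lies in a Carter subgroup into which its system reduces. -/
theorem exists_carter_ge_aux : ∀ (n : ℕ) (G : Type u) [Group G] [Finite G] [Group.IsSolvable G],
    Nat.card G = n → ∀ (K : Nat.Primes → Subgroup G), Cfsg.IsComplementSystem K →
      ∃ C : Subgroup G, Cfsg.IsCarterSubgroup C ∧ Cfsg.systemNormalizer K ≤ C ∧ Reduces K C := by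
  intro n
  induction n using Nat.strong_induction_on with
  | _ n ih =>
  intro G _ _ _ hn K hK
  rcases subsingleton_or_nontrivial G with hs | hs
  · refine ⟨⊤, isCarter_top, le_top, fun p => ⟨0, ?_⟩⟩
    rw [pow_zero, relIndex_top_right, index_eq_one]
    exact Subsingleton.elim _ _
  obtain ⟨N, hNn, hN0, -, hmin⟩ := exists_minimal_normal_le (N := (⊤ : Subgroup G)) top_ne_bot
  haveI := hNn
  set f := QuotientGroup.mk' N with hf
  have hfs : Function.Surjective f := QuotientGroup.mk'_surjective N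
  obtain ⟨Cb, hCb, hDCb, hred⟩ := ih _ (hn ▸ card_quotient_lt hN0) (G ⧸ N) rfl _
    (isComplementSystem_map hK hfs)
  rw [systemNormalizer_map hK N] at hDCb
  set X := Cb.comap f with hX
  have hDX : Cfsg.systemNormalizer K ≤ X := map_le_iff_le_comap.1 hDCb
  have hNX : N ≤ X := by
    conv_lhs => rw [← QuotientGroup.ker_mk' N]
    exact ker_le_comap f Cb
  have hKX : Reduces K X := by
    intro p
    obtain ⟨a, ha⟩ := hred p
    obtain ⟨b, hb⟩ := reduces_normal hK N p
    refine ⟨b + a, ?_⟩
    have hded : (K p ⊔ N) ⊓ X = (K p ⊓ X) ⊔ N := by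
      refine le_antisymm (fun x hx => ?_) (sup_le (inf_le_inf_right _ le_sup_left) (le_inf le_sup_right hNX))
      obtain ⟨m, hm, k, hk, rfl⟩ := mem_sup_exists (N := N) (H := K p)
        (by rw [normalizer_eq_top (H := N)]; exact le_top) (sup_comm (K p) N ▸ hx.1)
      have hkX : k ∈ X := by
        have := X.mul_mem (X.inv_mem (hNX hm)) hx.2
        rwa [inv_mul_cancel_left] at this
      exact Subgroup.mul_mem _ (mem_sup_right hm) (mem_sup_left ⟨hk, hkX⟩)
    have h1 : ((K p ⊔ N) ⊓ X).relIndex X = (p : ℕ) ^ a := by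
      rw [inf_relIndex_right, show K p ⊔ N = ((K p).map f).comap f by
        rw [comap_map_eq, hf, QuotientGroup.ker_mk'], relIndex_comap, hX,
        map_comap_eq_self_of_surjective hfs, ha]
    have h2 : (K p ⊓ X).relIndex ((K p ⊔ N) ⊓ X) = (p : ℕ) ^ b := by
      rw [hded, relIndex_sup_normal, ← hb]
      have : K p ⊓ X ⊓ N = K p ⊓ N := by rw [inf_assoc, inf_eq_right.2 hNX]
      rw [← inf_relIndex_right, this, inf_relIndex_right]
    rw [← inf_relIndex_right, pow_add, ← h1, ← h2,
      relIndex_mul_relIndex _ _ _ (inf_le_inf_right _ le_sup_left) inf_le_right]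
  by_cases hXt : X = ⊤
  · have hCt : Cb = ⊤ := by
      rw [← map_comap_eq_self_of_surjective hfs Cb, ← hX, hXt, Subgroup.map_top_of_surjective f hfs]
    haveI : Group.IsNilpotent (G ⧸ N) := by
      haveI : Group.IsNilpotent Cb := hCb.1
      exact Group.nilpotent_of_mulEquiv ((MulEquiv.subgroupCongr hCt).trans Subgroup.topEquiv)
    obtain ⟨-, q, hq, hNq⟩ := minimal_normal_solvable hN0 hmin
    haveI := Fact.mk hq
    have hNp : IsPGroup q N := fun x => ⟨1, Subtype.ext (by simpa using hNq x x.2)⟩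
    have hNnil : Group.IsNilpotent N := hNp.isNilpotent
    exact ⟨_, isCarter_systemNormalizer hK N hNnil inferInstance, le_rfl, reduces_systemNormalizer hK⟩
  obtain ⟨C', hC', hDC', hredC⟩ := ih _ (hn ▸ lt_of_le_of_ne (card_le_card_group X)
    fun e => hXt (eq_top_of_card_eq X e)) X rfl _ (isComplementSystem_subgroupOf hK hKX)
  refine ⟨C'.map X.subtype, ?_, fun x hx => ?_, fun p => ?_⟩
  · refine isCarter_of_preimage N hCb (map_subtype_le C') ?_
    rw [subgroupOf, comap_map_eq_self_of_injective X.subtype_injective]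
    exact hC'
  · refine ⟨⟨x, hDX hx⟩, hDC' (mem_systemNormalizer.2 fun p => mem_normalizer_iff.2 fun y => ?_), rfl⟩
    exact mem_normalizer_iff.1 (mem_systemNormalizer.1 hx p) (y : G)
  · obtain ⟨e, he⟩ := hredC p
    exact ⟨e, by rw [← he]; exact (relIndex_comap (K p) X.subtype C').symm⟩

/-- Every system normalizer lies in a Carter subgroup. -/
theorem exists_carter_ge [Group.IsSolvable G] {K : Nat.Primes → Subgroup G}
    (hK : Cfsg.IsComplementSystem K) :
    ∃ C : Subgroup G, Cfsg.IsCarterSubgroup C ∧ Cfsg.systemNormalizer K ≤ C := by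
  obtain ⟨C, h, h', -⟩ := exists_carter_ge_aux _ G rfl K hK
  exact ⟨C, h, h'⟩

end CfsgLib.Coprime.System
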